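import Mathlib
import Cfsg.Agent.GroupStructure3.McLOut.Data

/-!
The automorphism group of the graph given by the adjacency masks has order at most 1796256000, and
if it has that order it is transitive on vertices, edges and triangles.
-/

set_option autoImplicit false
set_option maxRecDepth 10000

namespace Cfsg.Agent.GroupStructure3.McLOut

/-- The number of bits of a byte, read off a table. -/
def bits8 (b : ℕ) : ℕ := (byteTable >>> (4 * b)) &&& 15

/-- Counts the bits of a number, byte by byte. -/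
def cnt : ℕ → ℕ → ℕ
  | 0, _ => 0
  | n + 1, x => bits8 (x % 256) + cnt n (x / 256)

theorem bits8_eq : ∀ b < 256, bits8 b = ∑ j ∈ Finset.range 8, (b.testBit j).toNat := by
  decide +kernel

theorem cnt_eq : ∀ (n x : ℕ), cnt n x = ∑ j ∈ Finset.range (8 * n), (x.testBit j).toNat
  | 0, x => by simp [cnt]
  | n + 1, x => by
    rw [cnt, cnt_eq n, bits8_eq _ (Nat.mod_lt _ (by norm_num)), show 8 * (n + 1) = 8 + 8 * n by ring,
      Finset.sum_range_add]
    congr 1
    · refine Finset.sum_congr rfl fun j hj => ?_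
      have h8 := Nat.testBit_mod_two_pow x 8 j
      rw [show (2 : ℕ) ^ 8 = 256 by norm_num] at h8
      rw [h8]
      simp [Finset.mem_range.1 hj]
    · refine Finset.sum_congr rfl fun j _ => ?_
      rw [show (256 : ℕ) = 2 ^ 8 by norm_num, Nat.testBit_div_two_pow, add_comm]

/-- The mask of the numbers below `n` with the given property. -/
def mkMask (p : ℕ → Bool) : ℕ → ℕ
  | 0 => 0
  | n + 1 => mkMask p n ||| bif p n then 2 ^ n else 0

theorem testBit_mkMask (p : ℕ → Bool) : ∀ n i, (mkMask p n).testBit i = (decide (i < n) && p i)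
  | 0, i => by simp [mkMask]
  | n + 1, i => by
    rw [mkMask, Nat.testBit_or, testBit_mkMask p n]
    rcases eq_or_ne i n with rfl | hne
    · cases h : p i <;> simp [Nat.testBit_two_pow_self]
    · have h1 : (bif p n then 2 ^ n else 0).testBit i = false := by
        cases p n <;> simp [Nat.testBit_two_pow, Ne.symm hne]
      rw [h1, Bool.or_false, show decide (i < n + 1) = decide (i < n) from decide_eq_decide.2 (by omega)]

/-- The adjacency mask of a vertex. -/
def adjM (i : ℕ) : ℕ := (adjNum >>> (275 * i)) % 2 ^ 275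

theorem adjM_lt (i : Fin 275) : adjM i < 2 ^ 275 := Nat.mod_lt _ (Nat.two_pow_pos _)

/-- Adjacency. -/
def adjB (i j : Fin 275) : Bool := (adjM i).testBit j

theorem cnt_fin (i : Fin 275) (S : ℕ) :
    cnt 35 (adjM i &&& S) = ∑ j : Fin 275, (adjB i j && S.testBit j).toNat := by
  have hz : ∀ j, 275 ≤ j → ((adjM i &&& S).testBit j).toNat = 0 := fun j hj => by
    rw [Nat.testBit_and, Nat.testBit_lt_two_pow
      ((adjM_lt i).trans_le (Nat.pow_le_pow_right (by norm_num) hj))]
    simp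
  rw [cnt_eq, show 8 * 35 = 275 + 5 by norm_num, Finset.sum_range_add,
    Finset.sum_eq_zero (s := Finset.range 5) fun j _ => hz _ (Nat.le_add_right _ _), add_zero,
    ← Fin.sum_univ_eq_sum_range (fun j => ((adjM i &&& S).testBit j).toNat)]
  simp [adjB, Nat.testBit_and]

/-- The mask of one splitting. -/
def stepMask (L : List ℕ) (t : ℕ × ℕ × ℕ) : ℕ :=
  mkMask (fun i => (L.getD t.1 0).testBit i && cnt 35 (adjM i &&& L.getD t.2.1 0) == t.2.2) 275

/-- Checks the listed masks of the splittings. -/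
def chk : List (ℕ × ℕ × ℕ × ℕ) → List ℕ → Bool
  | [], _ => true
  | t :: r, L => (stepMask L t.2 == t.1) && chk r (t.1 :: L)

/-- Prepends the listed masks. -/
def push : List (ℕ × ℕ × ℕ × ℕ) → List ℕ → List ℕ
  | [], L => L
  | t :: r, L => push r (t.1 :: L)

/-- The record of a level. -/
def lev (j : ℕ) : ℕ × ℕ × ℕ × List (ℕ × ℕ × ℕ × ℕ) := cert.getD j (0, 0, 0, [])

/-- The two masks added when a vertex is fixed. -/
def fixing (L : List ℕ) (b d : ℕ) : List ℕ := d :: 2 ^ b :: L

/-- The masks of the first levels, the last first. -/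
def lv : ℕ → List ℕ
  | 0 => [2 ^ 275 - 1]
  | n + 1 => push (lev n).2.2.2 (fixing (lv n) (lev n).1 (lev n).2.2.1)

theorem levels_ok : ((List.range 6).all fun j =>
    (((lv j).getD (lev j).2.1 0 ^^^ 2 ^ (lev j).1) == (lev j).2.2.1) &&
      chk (lev j).2.2.2 (fixing (lv j) (lev j).1 (lev j).2.2.1)) = true := by decide +kernel

/-- The base points. -/
def base (j : ℕ) : ℕ := (lev j).1

/-- The mask at a level containing the next base point. -/
def target (j : ℕ) : ℕ := (lv j).getD (lev j).2.1 0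

theorem base_lt : ∀ j < 6, base j < 275 := by decide +kernel

theorem final_check : ((List.range 275).all fun i => (lv 6).contains (2 ^ i)) = true := by
  decide +kernel

theorem final (i : Fin 275) : 2 ^ (i : ℕ) ∈ lv 6 := by
  have h := List.all_eq_true.1 final_check i (List.mem_range.2 i.2)
  exact List.contains_iff_mem.1 h

theorem target_facts : (∀ j < 6, (target j).testBit (base j) = true) ∧
    (List.range 6).map (fun j => cnt 35 (target j)) = [275, 112, 30, 54, 18, 2] ∧
    (∀ j < 6, target j < 2 ^ 275) ∧ target 1 = adjM (base 0) ∧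
    target 2 = adjM (base 0) &&& adjM (base 1) ∧
    cnt 35 (adjM (base 0) &&& (adjM (base 1) &&& adjM (base 2))) = 2 ∧
    (adjM (base 0)).testBit (base 1) = true ∧
    (adjM (base 0) &&& adjM (base 1)).testBit (base 2) = true := by decide +kernel

/-- A mask invariant under a permutation. -/
def Inv (σ : Equiv.Perm (Fin 275)) (m : ℕ) : Prop :=
  ∀ i : Fin 275, m.testBit (σ i : ℕ) = m.testBit (i : ℕ)

/-- Every mask of a list is invariant. -/
def InvL (σ : Equiv.Perm (Fin 275)) (L : List ℕ) : Prop := ∀ m ∈ L, Inv σ m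

/-- The automorphism group. -/
def Au : Subgroup (Equiv.Perm (Fin 275)) where
  carrier := {σ | ∀ i j, adjB (σ i) (σ j) = adjB i j}
  mul_mem' := fun {σ τ} hσ hτ i j => (hσ _ _).trans (hτ i j)
  one_mem' := fun _ _ => rfl
  inv_mem' := fun {σ} hσ i j => by
    have := hσ (σ⁻¹ i) (σ⁻¹ j)
    rwa [Equiv.Perm.coe_inv, Equiv.apply_symm_apply, Equiv.apply_symm_apply, eq_comm] at this

theorem mem_Au {σ : Equiv.Perm (Fin 275)} : σ ∈ Au ↔ ∀ i j, adjB (σ i) (σ j) = adjB i j := Iff.rfl

theorem inv_getD {σ : Equiv.Perm (Fin 275)} {L : List ℕ} (hL : InvL σ L) (k : ℕ) :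
    Inv σ (L.getD k 0) := by
  rw [List.getD_eq_getElem?_getD]
  rcases h : L[k]? with _ | m
  · intro i; simp
  · exact hL m (List.mem_of_getElem? h)

theorem inv_step {σ : Equiv.Perm (Fin 275)} (hσ : σ ∈ Au) {L : List ℕ} (hL : InvL σ L)
    (t : ℕ × ℕ × ℕ) : Inv σ (stepMask L t) := by
  intro i
  rw [stepMask, testBit_mkMask, testBit_mkMask]
  have hc : cnt 35 (adjM (σ i) &&& L.getD t.2.1 0) = cnt 35 (adjM i &&& L.getD t.2.1 0) := by
    rw [cnt_fin, cnt_fin]
    refine (Fintype.sum_equiv σ _ _ fun j => ?_).symm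
    rw [hσ i j, inv_getD hL t.2.1 j]
  rw [inv_getD hL t.1 i, hc]
  simp

theorem inv_fixing {σ : Equiv.Perm (Fin 275)} {L : List ℕ} (hL : InvL σ L) {b : ℕ} (hb : b < 275)
    (hσb : σ ⟨b, hb⟩ = ⟨b, hb⟩) {d A : ℕ} (hd : L.getD A 0 ^^^ 2 ^ b = d) :
    InvL σ (fixing L b d) := by
  have h2 : Inv σ (2 ^ b) := fun i => by
    rw [Nat.testBit_two_pow, Nat.testBit_two_pow]
    refine decide_eq_decide.2 ⟨fun e => ?_, fun e => ?_⟩
    · have : σ i = σ ⟨b, hb⟩ := hσb.symm ▸ Fin.ext e.symm
      rw [σ.injective this]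
    · have : i = ⟨b, hb⟩ := Fin.ext e.symm
      rw [this, hσb]
  intro m hm
  simp only [fixing, List.mem_cons] at hm
  rcases hm with rfl | rfl | h
  · intro i; rw [← hd, Nat.testBit_xor, Nat.testBit_xor, inv_getD hL A i, h2 i]
  · exact h2
  · exact hL m h

theorem inv_push {σ : Equiv.Perm (Fin 275)} (hσ : σ ∈ Au) :
    ∀ (ts : List (ℕ × ℕ × ℕ × ℕ)) {L : List ℕ}, InvL σ L → chk ts L = true → InvL σ (push ts L)
  | [], _, h, _ => h
  | t :: ts, L, h, hc => by
    rw [chk, Bool.and_eq_true, beq_iff_eq] at hc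
    refine inv_push hσ ts (fun m hm => ?_) hc.2
    rcases List.mem_cons.1 hm with rfl | hm
    · exact hc.1 ▸ inv_step hσ h t.2
    · exact h m hm

theorem inv_lv {σ : Equiv.Perm (Fin 275)} (hσ : σ ∈ Au) :
    ∀ n ≤ 6, (∀ j < n, ∀ h : base j < 275, σ ⟨base j, h⟩ = ⟨base j, h⟩) → InvL σ (lv n)
  | 0, _, _ => by
    intro m hm i
    rw [lv, List.mem_singleton] at hm
    subst hm
    rw [Nat.testBit_two_pow_sub_one, Nat.testBit_two_pow_sub_one]
    simp
  | n + 1, hn, hfix => by
    have h := List.all_eq_true.1 levels_ok n (List.mem_range.2 (by omega))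
    rw [Bool.and_eq_true, beq_iff_eq] at h
    rw [lv]
    exact inv_push hσ _ (inv_fixing (inv_lv hσ n (by omega) fun j hj => hfix j (by omega))
      (base_lt n (by omega)) (hfix n (Nat.lt_succ_self n) _) h.1) h.2

/-- The stabiliser of the first base points. -/
def K (n : ℕ) : Subgroup (Equiv.Perm (Fin 275)) where
  carrier := {σ | σ ∈ Au ∧ ∀ j < n, ∀ h : base j < 275, σ ⟨base j, h⟩ = ⟨base j, h⟩}
  mul_mem' := fun {σ τ} hσ hτ => ⟨mul_mem hσ.1 hτ.1, fun j hj h => by
    rw [Equiv.Perm.mul_apply, hτ.2 j hj h, hσ.2 j hj h]⟩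
  one_mem' := ⟨one_mem _, fun _ _ _ => rfl⟩
  inv_mem' := fun {σ} hσ => ⟨inv_mem hσ.1, fun j hj h => Equiv.Perm.inv_eq_iff_eq.2 (hσ.2 j hj h).symm⟩

theorem K_zero : K 0 = Au :=
  le_antisymm (fun _ h => h.1) fun _ h => ⟨h, fun _ hj => absurd hj (Nat.not_lt_zero _)⟩

theorem K_six : K 6 = ⊥ := by
  rw [eq_bot_iff]
  intro σ hσ
  rw [Subgroup.mem_bot]
  refine Equiv.ext fun i => ?_
  have h := inv_lv hσ.1 6 le_rfl hσ.2 _ (final i) i
  rw [Nat.testBit_two_pow_self, Nat.testBit_two_pow, decide_eq_true_iff] at h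
  exact Fin.ext h.symm

/-- The orbit bound at each level. -/
def bound (n : ℕ) : ℕ := [275, 112, 30, 54, 18, 2].getD n 1

theorem cnt_target {n : ℕ} (hn : n < 6) :
    (Finset.univ.filter fun i : Fin 275 => (target n).testBit i = true).card = bound n := by
  have h := congrArg (fun l : List ℕ => l.getD n 1) target_facts.2.1
  simp only [List.getD_eq_getElem?_getD, List.getElem?_map, List.getElem?_range hn,
    Option.map_some, Option.getD_some] at h
  rw [bound, List.getD_eq_getElem?_getD, ← h, Finset.card_filter, cnt_eq,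
    show 8 * 35 = 275 + 5 by norm_num, Finset.sum_range_add,
    Finset.sum_eq_zero (s := Finset.range 5) fun j _ => by
      rw [Nat.testBit_lt_two_pow ((target_facts.2.2.1 n hn).trans_le
        (Nat.pow_le_pow_right (by norm_num) (Nat.le_add_right _ _)))]
      rfl,
    add_zero, ← Fin.sum_univ_eq_sum_range (fun j => ((target n).testBit j).toNat)]
  exact Finset.sum_congr rfl fun i _ => by cases (target n).testBit i <;> rfl

theorem orbit_subset {n : ℕ} (hn : n < 6) :
    MulAction.orbit (K n) (⟨base n, base_lt n hn⟩ : Fin 275) ⊆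
      {i : Fin 275 | (target n).testBit (i : ℕ) = true} := by
  rintro _ ⟨σ, rfl⟩
  show (target n).testBit (((σ : Equiv.Perm (Fin 275)) ⟨base n, base_lt n hn⟩ : Fin 275) : ℕ) = true
  rw [target, inv_getD (inv_lv σ.2.1 n hn.le σ.2.2) _ _]
  exact target_facts.1 n hn

theorem card_succ {n : ℕ} (hn : n < 6) :
    Nat.card (K n) = (MulAction.orbit (K n) (⟨base n, base_lt n hn⟩ : Fin 275)).ncard * Nat.card (K (n + 1)) := by
  have h := Subgroup.index_mul_card (MulAction.stabilizer (K n) (⟨base n, base_lt n hn⟩ : Fin 275))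
  rw [MulAction.index_stabilizer] at h
  rw [← h]
  congr 1
  refine Nat.card_congr ⟨fun s => ⟨s.1.1, s.1.2.1, fun j hj h' => ?_⟩,
    fun s => ⟨⟨s.1, s.2.1, fun j hj => s.2.2 j (by omega)⟩, s.2.2 n (Nat.lt_succ_self n) _⟩,
    fun s => rfl, fun s => rfl⟩
  rcases Nat.lt_succ_iff_lt_or_eq.1 hj with hj | rfl
  · exact s.1.2.2 j hj h'
  · exact s.2

theorem orbit_le {n : ℕ} (hn : n < 6) :
    (MulAction.orbit (K n) (⟨base n, base_lt n hn⟩ : Fin 275)).ncard ≤ bound n := by
  rw [← cnt_target hn, ← Set.ncard_coe_finset]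
  exact Set.ncard_le_ncard (by rw [Finset.coe_filter]; simpa using orbit_subset hn)

/-- The product of the bounds from a level on. -/
def tail (n : ℕ) : ℕ := (([275, 112, 30, 54, 18, 2] : List ℕ).drop n).prod

theorem card_K_le : ∀ d n, n + d = 6 → Nat.card (K n) ≤ tail n
  | 0, n, h => by
    obtain rfl : n = 6 := h
    rw [K_six, Subgroup.card_bot]; rfl
  | d + 1, n, h => by
    rw [card_succ (by omega : n < 6)]
    calc _ ≤ bound n * tail (n + 1) :=
          Nat.mul_le_mul (orbit_le (by omega)) (card_K_le d (n + 1) (by omega))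
      _ = tail n := by
        have key : ∀ n < 6, bound n * tail (n + 1) = tail n := by decide +kernel
        exact key n (by omega)

theorem card_Au_le : Nat.card Au ≤ 1796256000 :=
  (K_zero ▸ card_K_le 6 0 rfl).trans_eq (by decide +kernel)

variable (hAu : Nat.card Au = 1796256000)
include hAu

theorem card_K_eq : ∀ n ≤ 3, Nat.card (K n) = tail n ∧
    (MulAction.orbit (K n) (⟨base n % 275, Nat.mod_lt _ (by norm_num)⟩ : Fin 275)) =
      {i : Fin 275 | (target n).testBit (i : ℕ) = true} := by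
  have step1 : ∀ n < 6, Nat.card (K n) = tail n → Nat.card (K (n + 1)) = tail (n + 1) ∧
      (MulAction.orbit (K n) (⟨base n % 275, Nat.mod_lt _ (by norm_num)⟩ : Fin 275)) =
        {i : Fin 275 | (target n).testBit (i : ℕ) = true} := by
    intro n hn e
    have key : ∀ n < 6, bound n * tail (n + 1) = tail n ∧ 0 < tail (n + 1) ∧ 0 < bound n := by
      decide +kernel
    obtain ⟨k1, k2, k3⟩ := key n hn
    have hb : (⟨base n % 275, Nat.mod_lt _ (by norm_num)⟩ : Fin 275) = ⟨base n, base_lt n hn⟩ :=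
      Fin.ext (Nat.mod_eq_of_lt (base_lt n hn))
    rw [hb]
    rw [card_succ hn, ← k1] at e
    have h1 := orbit_le hn
    have h2 := card_K_le (6 - (n + 1)) (n + 1) (by omega)
    have e2 : Nat.card (K (n + 1)) = tail (n + 1) := by
      by_contra hne
      have : (MulAction.orbit (K n) (⟨base n, base_lt n hn⟩ : Fin 275)).ncard * Nat.card (K (n + 1)) <
          bound n * tail (n + 1) :=
        Nat.mul_lt_mul_of_le_of_lt h1 (lt_of_le_of_ne h2 hne) k3
      omega
    refine ⟨e2, ?_⟩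
    rw [e2] at e
    refine Set.eq_of_subset_of_ncard_le (orbit_subset hn) ?_
    rw [Nat.eq_of_mul_eq_mul_right k2 e, ← cnt_target hn, ← Set.ncard_coe_finset, Finset.coe_filter]
    simp
  have e0 : Nat.card (K 0) = tail 0 := by rw [K_zero, hAu]; decide +kernel
  intro n hn
  obtain ⟨e1, o0⟩ := step1 0 (by norm_num) e0
  obtain ⟨e2, o1⟩ := step1 1 (by norm_num) e1
  obtain ⟨e3, o2⟩ := step1 2 (by norm_num) e2
  obtain ⟨-, o3⟩ := step1 3 (by norm_num) e3
  interval_cases n
  exacts [⟨e0, o0⟩, ⟨e1, o1⟩, ⟨e2, o2⟩, ⟨e3, o3⟩]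

theorem card_K_three : Nat.card (K 3) = 1944 :=
  ((card_K_eq hAu 3 le_rfl).1).trans (by decide +kernel)

/-- The first base points as vertices. -/
def bp (n : ℕ) : Fin 275 := ⟨base n % 275, Nat.mod_lt _ (by norm_num)⟩

/-- Every triangle is moved to the base triangle by an automorphism. -/
theorem exists_to_base {x y z : Fin 275} (hxy : adjB x y = true) (hxz : adjB x z = true)
    (hyz : adjB y z = true) :
    ∃ σ ∈ Au, σ x = bp 0 ∧ σ y = bp 1 ∧ σ z = bp 2 := by
  have hfull : ∀ i : Fin 275, (target 0).testBit (i : ℕ) = true := by decide +kernel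
  have hb : ∀ j, ∀ hj : j < 6, (⟨base j, base_lt j hj⟩ : Fin 275) = bp j := fun j hj =>
    Fin.ext (Nat.mod_eq_of_lt (base_lt j hj)).symm
  obtain ⟨a, ha⟩ := ((card_K_eq hAu 0 (by norm_num)).2.symm ▸ hfull x :
    x ∈ MulAction.orbit (K 0) (bp 0))
  change (a : Equiv.Perm (Fin 275)) (bp 0) = x at ha
  set a' := (a : Equiv.Perm (Fin 275))⁻¹ with ha'
  have ha'x : a' x = bp 0 := Equiv.Perm.inv_eq_iff_eq.2 ha.symm
  have ha'A : a' ∈ Au := inv_mem a.2.1
  have h1 : (target 1).testBit (a' y : ℕ) = true := by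
    rw [target_facts.2.2.2.1, show base 0 = (bp 0 : ℕ) from (congrArg Fin.val (hb 0 (by norm_num)))]
    show adjB (bp 0) (a' y) = true
    rw [← ha'x, ha'A, hxy]
  obtain ⟨c, hc⟩ := ((card_K_eq hAu 1 (by norm_num)).2.symm ▸ h1 :
    a' y ∈ MulAction.orbit (K 1) (bp 1))
  change (c : Equiv.Perm (Fin 275)) (bp 1) = a' y at hc
  set c' := (c : Equiv.Perm (Fin 275))⁻¹ with hc'
  have hc0 : c' (bp 0) = bp 0 := by
    refine Equiv.Perm.inv_eq_iff_eq.2 ?_
    have := c.2.2 0 (by norm_num) (base_lt 0 (by norm_num))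
    rw [hb 0 (by norm_num)] at this
    exact this.symm
  have hm : c' * a' ∈ Au := mul_mem (inv_mem c.2.1) ha'A
  have hmx : (c' * a') x = bp 0 := by rw [Equiv.Perm.mul_apply, ha'x, hc0]
  have hmy : (c' * a') y = bp 1 := Equiv.Perm.inv_eq_iff_eq.2 hc.symm
  have h2 : (target 2).testBit ((c' * a') z : ℕ) = true := by
    rw [target_facts.2.2.2.2.1, Nat.testBit_and, Bool.and_eq_true,
      show base 0 = (bp 0 : ℕ) from (congrArg Fin.val (hb 0 (by norm_num))),
      show base 1 = (bp 1 : ℕ) from (congrArg Fin.val (hb 1 (by norm_num)))]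
    constructor
    · show adjB (bp 0) ((c' * a') z) = true
      rw [← hmx, hm, hxz]
    · show adjB (bp 1) ((c' * a') z) = true
      rw [← hmy, hm, hyz]
  obtain ⟨d, hd⟩ := ((card_K_eq hAu 2 (by norm_num)).2.symm ▸ h2 :
    (c' * a') z ∈ MulAction.orbit (K 2) (bp 2))
  change (d : Equiv.Perm (Fin 275)) (bp 2) = (c' * a') z at hd
  have hdfix : ∀ j, j < 2 → (d : Equiv.Perm (Fin 275))⁻¹ (bp j) = bp j := fun j hj => by
    refine Equiv.Perm.inv_eq_iff_eq.2 ?_
    have := d.2.2 j hj (base_lt j (by omega))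
    rw [hb j (by omega)] at this
    exact this.symm
  refine ⟨(d : Equiv.Perm (Fin 275))⁻¹ * (c' * a'), mul_mem (inv_mem d.2.1) hm, ?_, ?_,
    Equiv.Perm.inv_eq_iff_eq.2 hd.symm⟩
  · rw [Equiv.Perm.mul_apply, hmx, hdfix 0 (by norm_num)]
  · rw [Equiv.Perm.mul_apply, hmy, hdfix 1 (by norm_num)]

/-- Adjacent vertices have exactly thirty common neighbours. -/
theorem common_edge {x y : Fin 275} (hxy : adjB x y = true) :
    (Finset.univ.filter fun i => adjB x i = true ∧ adjB y i = true).card = 30 := by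
  obtain ⟨z, hz⟩ : ∃ σ ∈ Au, σ x = bp 0 ∧ σ y = bp 1 := by
    have hfull : ∀ i : Fin 275, (target 0).testBit (i : ℕ) = true := by decide +kernel
    obtain ⟨a, ha⟩ := ((card_K_eq hAu 0 (by norm_num)).2.symm ▸ hfull x :
      x ∈ MulAction.orbit (K 0) (bp 0))
    change (a : Equiv.Perm (Fin 275)) (bp 0) = x at ha
    have ha'x : (a : Equiv.Perm (Fin 275))⁻¹ x = bp 0 := Equiv.Perm.inv_eq_iff_eq.2 ha.symm
    have hb0 : base 0 = (bp 0 : ℕ) := (Nat.mod_eq_of_lt (base_lt 0 (by norm_num))).symm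
    have h1 : (target 1).testBit (((a : Equiv.Perm (Fin 275))⁻¹ y : Fin 275) : ℕ) = true := by
      rw [target_facts.2.2.2.1, hb0]
      show adjB (bp 0) _ = true
      rw [← ha'x, inv_mem a.2.1, hxy]
    obtain ⟨c, hc⟩ := ((card_K_eq hAu 1 (by norm_num)).2.symm ▸ h1 :
      (a : Equiv.Perm (Fin 275))⁻¹ y ∈ MulAction.orbit (K 1) (bp 1))
    change (c : Equiv.Perm (Fin 275)) (bp 1) = _ at hc
    refine ⟨(c : Equiv.Perm (Fin 275))⁻¹ * (a : Equiv.Perm (Fin 275))⁻¹,
      mul_mem (inv_mem c.2.1) (inv_mem a.2.1), ?_, Equiv.Perm.inv_eq_iff_eq.2 hc.symm⟩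
    rw [Equiv.Perm.mul_apply, ha'x]
    refine Equiv.Perm.inv_eq_iff_eq.2 ?_
    have := c.2.2 0 (by norm_num) (base_lt 0 (by norm_num))
    rw [show (⟨base 0, base_lt 0 (by norm_num)⟩ : Fin 275) = bp 0 from Fin.ext hb0] at this
    exact this.symm
  have hbase : (Finset.univ.filter fun i => adjB (bp 0) i = true ∧ adjB (bp 1) i = true).card = 30 := by
    decide +kernel
  rw [← hbase]
  exact Finset.card_bij (fun i _ => z i)
    (fun i hi => by
      simp only [Finset.mem_filter, Finset.mem_univ, true_and] at hi ⊢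
      rw [← hz.2.1, ← hz.2.2, hz.1, hz.1]; exact hi)
    (fun _ _ _ _ e => z.injective e)
    (fun i hi => ⟨z⁻¹ i, by
      simp only [Finset.mem_filter, Finset.mem_univ, true_and] at hi ⊢
      rw [← hz.2.1, ← hz.2.2] at hi
      have e : z (z⁻¹ i) = i := z.apply_symm_apply i
      rw [← e, hz.1, hz.1] at hi
      exact hi, z.apply_symm_apply i⟩)

/-- A triangle has at most two common neighbours. -/
theorem common_triangle {x y z : Fin 275} (hxy : adjB x y = true) (hxz : adjB x z = true)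
    (hyz : adjB y z = true) :
    (Finset.univ.filter fun i => adjB x i = true ∧ adjB y i = true ∧ adjB z i = true).card ≤ 2 := by
  obtain ⟨σ, hσ, hx, hy, hz⟩ := exists_to_base hAu hxy hxz hyz
  have hbase : (Finset.univ.filter fun i => adjB (bp 0) i = true ∧ adjB (bp 1) i = true ∧
      adjB (bp 2) i = true).card ≤ 2 := by decide +kernel
  refine le_trans (Finset.card_le_card_of_injOn σ (fun i hi => ?_) σ.injective.injOn) hbase
  simp only [Finset.coe_filter, Set.mem_setOf_eq, Finset.mem_filter, Finset.mem_univ, true_and] at hi ⊢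
  rw [← hx, ← hy, ← hz, hσ, hσ, hσ]
  exact hi

/-- No automorphism group of 729 elements fixes a triangle. -/
theorem not_dvd_triangle {x y z : Fin 275} (hxy : adjB x y = true) (hxz : adjB x z = true)
    (hyz : adjB y z = true) (P : Subgroup (Equiv.Perm (Fin 275))) (hP : P ≤ Au)
    (hfix : ∀ σ ∈ P, σ x = x ∧ σ y = y ∧ σ z = z) : Nat.card P ≠ 729 := by
  intro hc
  obtain ⟨σ, hσ, hx, hy, hz⟩ := exists_to_base hAu hxy hxz hyz
  have hle : P.map (MulAut.conj σ).toMonoidHom ≤ K 3 := by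
    rintro _ ⟨p, hp, rfl⟩
    show σ * p * σ⁻¹ ∈ K 3
    refine ⟨mul_mem (mul_mem hσ (hP hp)) (inv_mem hσ), fun j hj h => ?_⟩
    have e : (⟨base j, h⟩ : Fin 275) = bp j := Fin.ext (Nat.mod_eq_of_lt h).symm
    obtain ⟨p1, p2, p3⟩ := hfix p hp
    rw [e]
    interval_cases j
    all_goals first
      | rw [← hx, Equiv.Perm.mul_apply, Equiv.Perm.mul_apply, Equiv.Perm.coe_inv, Equiv.symm_apply_apply, p1]
      | rw [← hy, Equiv.Perm.mul_apply, Equiv.Perm.mul_apply, Equiv.Perm.coe_inv, Equiv.symm_apply_apply, p2]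
      | rw [← hz, Equiv.Perm.mul_apply, Equiv.Perm.mul_apply, Equiv.Perm.coe_inv, Equiv.symm_apply_apply, p3]
  have := Subgroup.card_dvd_of_le hle
  rw [Subgroup.card_map_of_injective (MulAut.conj σ).injective, hc, card_K_three hAu] at this
  norm_num at this

end Cfsg.Agent.GroupStructure3.McLOut
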