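import Mathlib
import Cfsg.Agent.Lib.LeechAut.McL275
import Cfsg.Agent.GroupStructure3.McLOut.Graph

/-!
The 275 vectors as the vertices of the graph; the group and an outer element as automorphisms.
-/

set_option autoImplicit false
set_option maxRecDepth 10000

namespace Cfsg.Agent.GroupStructure3.McLOut

open Cfsg Cfsg.Agent.Golay.Basic Cfsg.Agent.Golay.Design Cfsg.Agent.Leech.Basic
  Cfsg.Agent.Leech.Index Cfsg.Agent.LeechAut.Basic Cfsg.Agent.LeechAut.Shells
  Cfsg.Agent.LeechAut.Cross Cfsg.Agent.LeechAut.Pairs Cfsg.Agent.LeechAut.Triples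
open Cfsg.Agent.LeechAut
open Cfsg.Agent.LeechAut.McL275 (InA Af mem_Af pairVec)

/-- The group. -/
local notation "GG" => McL.G

/-- The type of the 275 vectors. -/
def A : Type := {y : leechLattice // InA y}

instance actionA : MulAction GG A where
  smul g y := ⟨(g : Co0) • y.1, McL275.inA_smul g.2 y.2⟩
  one_smul y := Subtype.ext (one_smul Co0 y.1)
  mul_smul g h y := Subtype.ext (mul_smul (g : Co0) h y.1)

theorem coe_smul (g : GG) (y : A) : (g • y).1 = (g : Co0) • y.1 := rfl

/-- The coefficient at the mask. -/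
def aC : ℕ → ℤ
  | 0 => 4
  | 1 => 2
  | _ => -2

/-- The constant coefficient. -/
def bC : ℕ → ℤ
  | 0 => 0
  | 1 => 0
  | _ => 1

/-- The coefficient at infinity. -/
def cC : ℕ → ℤ
  | 0 => 0
  | 1 => 0
  | _ => 4

/-- The vector of a tagged mask. -/
def tvec (v : ℕ × ℕ) : Vec := fun p =>
  aC v.1 * (if p ∈ maskSet v.2 then 1 else 0) + bC v.1 + cC v.1 * (if p = none then 1 else 0)

/-- The product of two tagged masks. -/
def tdot (v w : ℕ × ℕ) : ℤ :=
  aC v.1 * aC w.1 * (pc (v.2 &&& w.2) : ℤ) + aC v.1 * bC w.1 * (pc v.2 : ℤ)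
    + bC v.1 * aC w.1 * (pc w.2 : ℤ) + 24 * (bC v.1 * bC w.1)
    + aC v.1 * cC w.1 * (if v.2.testBit 23 then 1 else 0)
    + cC v.1 * aC w.1 * (if w.2.testBit 23 then 1 else 0)
    + bC v.1 * cC w.1 + cC v.1 * bC w.1 + cC v.1 * cC w.1

theorem dot_tvec (v w : ℕ × ℕ) : dotInt (tvec v) (tvec w) = tdot v w := by
  classical
  have hi : ∀ p : GolayPt, ((if p ∈ maskSet v.2 then (1 : ℤ) else 0) * if p ∈ maskSet w.2 then 1 else 0)
      = if p ∈ maskSet (v.2 &&& w.2) then 1 else 0 := fun p => by
    simp only [mem_maskSet, Nat.testBit_and, Bool.and_eq_true]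
    split_ifs <;> simp_all
  have hc : ∀ m, ∑ p : GolayPt, (if p ∈ maskSet m then (1 : ℤ) else 0) = (pc m : ℤ) := fun m => by
    rw [← card_maskSet, Finset.sum_boole, Finset.filter_mem_eq_inter, Finset.univ_inter]
  have h1 : ∀ m, ∑ p : GolayPt, (if p ∈ maskSet m then (1 : ℤ) else 0) * (if p = none then 1 else 0)
      = if m.testBit 23 then 1 else 0 := fun m => by
    rw [Finset.sum_eq_single none (fun p _ hp => by simp [hp]) (by simp)]
    simp [mem_maskSet, ix]
  have h2 : ∑ p : GolayPt, (if p = none then (1 : ℤ) else 0) = 1 := by simp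
  have e : ∀ p : GolayPt, tvec v p * tvec w p =
      aC v.1 * aC w.1 * ((if p ∈ maskSet v.2 then 1 else 0) * if p ∈ maskSet w.2 then 1 else 0)
      + aC v.1 * bC w.1 * (if p ∈ maskSet v.2 then 1 else 0)
      + bC v.1 * aC w.1 * (if p ∈ maskSet w.2 then 1 else 0)
      + bC v.1 * bC w.1
      + aC v.1 * cC w.1 * ((if p ∈ maskSet v.2 then 1 else 0) * if p = none then 1 else 0)
      + cC v.1 * aC w.1 * ((if p ∈ maskSet w.2 then 1 else 0) * if p = none then 1 else 0)
      + (bC v.1 * cC w.1 + cC v.1 * bC w.1 + cC v.1 * cC w.1) * (if p = none then 1 else 0) := fun p => by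
    simp only [tvec]
    split_ifs <;> ring
  show ∑ p, tvec v p * tvec w p = _
  simp only [e, hi, Finset.sum_add_distrib, ← Finset.mul_sum, hc, h1, h2, Finset.sum_const,
    Finset.card_univ, show Fintype.card GolayPt = 24 by decide, nsmul_eq_mul, tdot]
  push_cast
  ring

/-- The vector of a vertex. -/
def vecI (i : Fin 275) : Vec := tvec (vertList.getD i (0, 0))

/-- The number of bits of a 24-bit number, read off the table. -/
def pcT (x : ℕ) : ℕ := bits8 (x % 256) + bits8 (x / 256 % 256) + bits8 (x / 65536 % 256)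

theorem pcT_eq {x : ℕ} (hx : x < 2 ^ 24) : pcT x = pc x := by
  have key : ∀ b < 256, bits8 b = pc8 b := by decide +kernel
  have h8 : ∀ y, pc8 (y % 256) = pc8 y := fun y => by
    simp only [pc8]; omega
  rw [pcT, pc, key _ (Nat.mod_lt _ (by norm_num)), key _ (Nat.mod_lt _ (by norm_num)),
    key _ (Nat.mod_lt _ (by norm_num)), h8, h8, h8]

/-- The intersection giving product eight, for each pair of tags. -/
def good : ℕ → ℕ → ℕ → Bool
  | tv, tw, k => (aC tv * aC tw * (k : ℤ) + aC tv * bC tw * (if tv = 0 then 2 else 8)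
    + bC tv * aC tw * (if tw = 0 then 2 else 8) + 24 * (bC tv * bC tw)
    + aC tv * cC tw + cC tv * aC tw + bC tv * cC tw + cC tv * bC tw + cC tv * cC tw) == 8

/-- The table of `good`, by nine times the intersection plus the tags. -/
def goodTable : ℕ := mkMask (fun e => good (e % 9 / 3) (e % 3) (e / 9)) 225

/-- The adjacency mask of a vertex, computed. -/
def rowOf (v : ℕ × ℕ) : List (ℕ × ℕ) → ℕ
  | [] => 0
  | w :: ws => Nat.bit (goodTable.testBit (9 * pcT (v.2 &&& w.2) + 3 * v.1 + w.1)) (rowOf v ws)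

theorem rows_ok : (vertList.map fun v => rowOf v vertList) = (List.range 275).map adjM := by decide +kernel

theorem vert_facts : ∀ v ∈ vertList, v.1 < 3 ∧ v.2 < 2 ^ 24 ∧ v.2.testBit 23 = true ∧
    pc v.2 = if v.1 = 0 then 2 else 8 := by decide +kernel

theorem testBit_rowOf (v : ℕ × ℕ) : ∀ (ws : List (ℕ × ℕ)) (j : ℕ) (hj : j < ws.length),
    (rowOf v ws).testBit j = goodTable.testBit (9 * pcT (v.2 &&& ws[j].2) + 3 * v.1 + ws[j].1)
  | w :: ws, 0, _ => by rw [rowOf, Nat.testBit_bit_zero]; rfl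
  | w :: ws, j + 1, hj => by
    rw [rowOf, Nat.testBit_bit_succ, testBit_rowOf v ws j (Nat.lt_of_succ_lt_succ hj)]
    rfl

theorem pc_le (x : ℕ) : pc x ≤ 24 := by simp only [pc, pc8]; omega

theorem vert_length : vertList.length = 275 := by decide +kernel

theorem adjB_iff (i j : Fin 275) :
    adjB i j = decide (tdot (vertList.getD i (0, 0)) (vertList.getD j (0, 0)) = 8) := by
  have hi : (i : ℕ) < vertList.length := by rw [vert_length]; exact i.2
  have hj : (j : ℕ) < vertList.length := by rw [vert_length]; exact j.2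
  have he : adjM i = rowOf vertList[(i : ℕ)] vertList := by
    have h := congrArg (fun l : List ℕ => l[(i : ℕ)]?) rows_ok
    simp only [List.getElem?_map, List.getElem?_range i.2, List.getElem?_eq_getElem hi,
      Option.map_some, Option.some.injEq] at h
    exact h.symm
  rw [adjB, he, testBit_rowOf _ _ _ hj,
    List.getD_eq_getElem _ _ hi, List.getD_eq_getElem _ _ hj]
  set v := vertList[(i : ℕ)]
  set w := vertList[(j : ℕ)]
  obtain ⟨v1, v2, v3, v4⟩ := vert_facts v (List.getElem_mem _)
  obtain ⟨w1, w2, w3, w4⟩ := vert_facts w (List.getElem_mem _)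
  have hlt : v.2 &&& w.2 < 2 ^ 24 := Nat.and_lt_two_pow _ w2
  have hk := pc_le (v.2 &&& w.2)
  rw [pcT_eq hlt]
  set k := pc (v.2 &&& w.2) with hkdef
  rw [goodTable, testBit_mkMask, decide_eq_true (by omega : 9 * k + 3 * v.1 + w.1 < 225),
    Bool.true_and, show (9 * k + 3 * v.1 + w.1) % 9 / 3 = v.1 by omega,
    show (9 * k + 3 * v.1 + w.1) % 3 = w.1 by omega, show (9 * k + 3 * v.1 + w.1) / 9 = k by omega,
    tdot, ← hkdef, v3, w3, v4, w4, good]
  simp only [if_true, mul_one, Nat.cast_ite, Nat.cast_ofNat]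
  rfl

theorem exists_index {v : ℕ × ℕ} (h : v ∈ vertList) : ∃ i : Fin 275, vecI i = tvec v := by
  obtain ⟨n, hn, e⟩ := List.getElem_of_mem h
  refine ⟨⟨n, vert_length ▸ hn⟩, ?_⟩
  show tvec (vertList.getD n (0, 0)) = _
  rw [List.getD_eq_getElem _ _ hn, e]

theorem pair_mem : ∀ j : GolayPt, j ≠ none → j ≠ pt 0 → (0, mask {none, j}) ∈ vertList := by
  decide +kernel

theorem octad_mem : ∀ m ∈ weightList 8, m.testBit 23 = true →
    (if m.testBit 0 then 1 else 2, m) ∈ vertList := by decide +kernel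

theorem mask_mem_weightList {o : Finset GolayPt} (ho : o ∈ octads) : mask o ∈ weightList 8 := by
  rw [weightList, List.mem_filter]
  obtain ⟨h1, h2⟩ := mem_octads_iff.1 ho
  rw [card_eq_pc] at h2
  exact ⟨mem_codeList h1, by simp [h2]⟩

theorem exists_vertex {y : leechLattice} (hy : InA y) : ∃ i : Fin 275, vecI i = (y : Vec) := by
  rcases McL275.classify hy with ⟨-, j, hj, hj0, e⟩ | ⟨-, o, ho, hn, h0, e⟩ | ⟨-, c, hc, hn, h0, e⟩
  · obtain ⟨i, hi⟩ := exists_index (pair_mem j hj hj0)
    refine ⟨i, hi.trans (e ▸ funext fun p => ?_)⟩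
    simp [tvec, pairVec, aC, bC, cC, mem_maskSet]
  · have h := octad_mem _ (mask_mem_weightList ho) ((testBit_mask o none).trans (decide_eq_true hn))
    have e0 : (mask o).testBit 0 = true := (testBit_mask o (pt 0)).trans (decide_eq_true h0)
    rw [if_pos e0] at h
    obtain ⟨i, hi⟩ := exists_index h
    refine ⟨i, hi.trans (e ▸ funext fun p => ?_)⟩
    simp [tvec, McL.F0, aC, bC, cC, mem_maskSet]
  · have h := octad_mem _ (mask_mem_weightList hc) ((testBit_mask c none).trans (decide_eq_true hn))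
    have e0 : ¬ (mask c).testBit 0 = true := fun e => h0 (of_decide_eq_true ((testBit_mask c (pt 0)).symm.trans e))
    rw [if_neg e0] at h
    obtain ⟨i, hi⟩ := exists_index h
    refine ⟨i, hi.trans (e ▸ funext fun p => ?_)⟩
    simp only [tvec, McL.F1, aC, bC, cC, mem_maskSet, testBit_mask, decide_eq_true_eq]
    split_ifs <;> simp

theorem nonempty_equiv_vert : ∃ e : A ≃ Fin 275, ∀ y : A, vecI (e y) = (y.1 : Vec) := by
  classical
  let eA : {y : leechLattice // y ∈ Af} ≃ A :=
    ⟨fun y => ⟨y.1, mem_Af.1 y.2⟩, fun y => ⟨y.1, mem_Af.2 y.2⟩, fun _ => rfl, fun _ => rfl⟩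
  haveI : Fintype A := Fintype.ofEquiv _ eA
  choose f hf using fun y : A => exists_vertex y.2
  refine ⟨Equiv.ofBijective f ((Fintype.bijective_iff_injective_and_card f).2
    ⟨fun a b e => ?_, ?_⟩), hf⟩
  · exact Subtype.ext (Subtype.ext (by rw [← hf a, ← hf b, e]))
  · rw [Fintype.card_fin, ← Fintype.card_congr eA, Fintype.card_coe, McL275.card_Af]

/-- The numbering of the vectors. -/
noncomputable def num : A ≃ Fin 275 := nonempty_equiv_vert.choose

theorem vecI_num (y : A) : vecI (num y) = (y.1 : Vec) := nonempty_equiv_vert.choose_spec y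

/-- Adjacency of vectors. -/
def Adj (y z : A) : Prop := dotInt (y.1 : Vec) (z.1 : Vec) = 8

theorem adjB_num (y z : A) : adjB (num y) (num z) = true ↔ Adj y z := by
  rw [adjB_iff, decide_eq_true_iff, ← dot_tvec, Adj, ← vecI_num y, ← vecI_num z]
  rfl

theorem card_A : Nat.card A = 275 := by rw [Nat.card_congr num, Nat.card_fin]

instance finiteA : Finite A := Finite.of_equiv _ num.symm

instance finiteG : Finite GG := Nat.finite_of_card_ne_zero (by rw [McL.card_G]; norm_num)

/-- The action on the numbers. -/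
noncomputable def toPerm : GG →* Equiv.Perm (Fin 275) :=
  (Equiv.permCongrHom num).toMonoidHom.comp (MulAction.toPermHom GG A)

theorem toPerm_num (g : GG) (y : A) : toPerm g (num y) = num (g • y) := by
  simp [toPerm, Equiv.permCongrHom, Equiv.permCongr_apply]

theorem adj_smul (g : GG) (y z : A) : Adj (g • y) (g • z) ↔ Adj y z := by
  rw [Adj, Adj, coe_smul, coe_smul, dot_smul]

theorem toPerm_mem (g : GG) : toPerm g ∈ Au := by
  intro i j
  obtain ⟨y, rfl⟩ := num.surjective i
  obtain ⟨z, rfl⟩ := num.surjective j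
  rw [toPerm_num, toPerm_num, Bool.eq_iff_iff, adjB_num, adjB_num, adj_smul]

theorem transitive (y z : A) : ∃ g : GG, g • y = z := by
  obtain ⟨g, hg, e⟩ := McL275.to_T y.1 y.2
  obtain ⟨g', hg', e'⟩ := McL275.to_T z.1 z.2
  refine ⟨⟨g'⁻¹ * g, mul_mem (inv_mem hg') hg⟩, Subtype.ext ?_⟩
  show (g'⁻¹ * g) • y.1 = z.1
  rw [mul_smul, e, ← e', inv_smul_smul]

theorem toPerm_injective : Function.Injective toPerm := by
  rw [← MonoidHom.ker_eq_bot_iff]
  haveI := McL.isSimple_G
  refine (IsSimpleGroup.eq_bot_or_eq_top_of_normal _ inferInstance).resolve_right fun h => ?_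
  haveI : Nontrivial A := Finite.one_lt_card_iff_nontrivial.1 (by rw [card_A]; norm_num)
  obtain ⟨y, z, hyz⟩ := exists_pair_ne A
  obtain ⟨g, rfl⟩ := transitive y z
  refine hyz (num.injective ?_)
  rw [← toPerm_num, MonoidHom.mem_ker.1 (h ▸ Subgroup.mem_top g)]
  rfl

theorem smul_sub' (g : Co0) (a b : leechLattice) : g • (a - b) = g • a - g • b :=
  eq_sub_of_add_eq (by rw [← smul_add', sub_add_cancel])

theorem card_Au : Nat.card Au = 1796256000 := by
  classical
  refine le_antisymm card_Au_le ?_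
  obtain ⟨h, hv, hw⟩ := trans_pairs v0 McL.w1 McL.w1 v0 sqNorm_v0 McL.w1_norm McL.w1_norm sqNorm_v0
    (Or.inl (by rw [McL.dot_v0w1]; rfl)) (dot_comm _ _)
  set u : leechLattice := v0 + McL.w1 with hu
  have hhu : h • u = u := by rw [hu, smul_add', hv, hw, add_comm]
  have hdl : ∀ (a : Vec) (b c : leechLattice),
      dotInt a ((b - c : leechLattice) : Vec) = dotInt a (b : Vec) - dotInt a (c : Vec) := fun a b c => by
    simp only [dotInt, AddSubgroup.coe_sub, Pi.sub_apply, mul_sub, Finset.sum_sub_distrib]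
  have hdr : ∀ (a : Vec) (b c : leechLattice),
      dotInt ((b - c : leechLattice) : Vec) a = dotInt (b : Vec) a - dotInt (c : Vec) a := fun a b c => by
    rw [dot_comm, hdl, dot_comm a, dot_comm a]
  have hdu : ∀ x : Vec, dotInt (u : Vec) x = dotInt (v0 : Vec) x + dotInt (McL.w1 : Vec) x := fun x => by
    rw [hu, AddSubgroup.coe_add, dot_add_left]
  have huu : dotInt (u : Vec) (u : Vec) = 48 := by
    rw [hdu, dot_comm (v0 : Vec), dot_comm (McL.w1 : Vec), hdu, hdu, dot_self, dot_self, sqNorm_v0,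
      McL.w1_norm, dot_comm (McL.w1 : Vec) (v0 : Vec), McL.dot_v0w1]
    norm_num
  have huy : ∀ y : A, dotInt (u : Vec) (y.1 : Vec) = 24 := fun y => by rw [hdu, y.2.2.1, y.2.2.2]; norm_num
  have huh : ∀ y : A, dotInt (u : Vec) ((h • y.1 : leechLattice) : Vec) = 24 := fun y => by
    have := dot_smul h u y.1
    rwa [hhu, huy] at this
  have hdd : ∀ y z : A, dotInt ((u - h • y.1 : leechLattice) : Vec) ((u - h • z.1 : leechLattice) : Vec)
      = dotInt (y.1 : Vec) (z.1 : Vec) := fun y z => by
    rw [hdl, hdr, hdr, huu, huh, dot_comm ((h • y.1 : leechLattice) : Vec) (u : Vec), huh, dot_smul]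
    ring
  have hmem : ∀ y : A, InA (u - h • y.1) := fun y => by
    refine ⟨?_, ?_, ?_⟩
    · rw [← dot_self, hdd, dot_self, y.2.1]
    · have e : dotInt (v0 : Vec) ((h • y.1 : leechLattice) : Vec) = 8 := by
        have := dot_smul h McL.w1 y.1
        rwa [hw, y.2.2.2] at this
      rw [hdl, e, dot_comm, hdu, dot_self, sqNorm_v0, dot_comm (McL.w1 : Vec) (v0 : Vec), McL.dot_v0w1]
      norm_num
    · have e : dotInt (McL.w1 : Vec) ((h • y.1 : leechLattice) : Vec) = 16 := by
        have := dot_smul h v0 y.1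
        rwa [hv, y.2.2.1] at this
      rw [hdl, e, dot_comm, hdu, dot_self, McL.w1_norm, McL.dot_v0w1]
      norm_num
  let t : A → A := fun y => ⟨u - h • y.1, hmem y⟩
  have ht : Function.Injective t := fun a b e => by
    have e' := congrArg Subtype.val e
    exact Subtype.ext (MulAction.injective h (sub_right_injective e'))
  let τ : Equiv.Perm (Fin 275) := num.permCongr (Equiv.ofBijective t (Finite.injective_iff_bijective.1 ht))
  have hτ : ∀ y, τ (num y) = num (t y) := fun y => by simp [τ, Equiv.permCongr_apply]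
  have hτA : τ ∈ Au := by
    intro i j
    obtain ⟨y, rfl⟩ := num.surjective i
    obtain ⟨z, rfl⟩ := num.surjective j
    rw [hτ, hτ, Bool.eq_iff_iff, adjB_num, adjB_num]
    show dotInt ((u - h • y.1 : leechLattice) : Vec) ((u - h • z.1 : leechLattice) : Vec) = 8 ↔ _
    rw [hdd]; rfl
  let N : Subgroup Au := toPerm.range.subgroupOf Au
  have hle : toPerm.range ≤ Au := by rintro _ ⟨g, rfl⟩; exact toPerm_mem g
  have hN : Nat.card N = 898128000 := by
    rw [Nat.card_congr (Subgroup.subgroupOfEquivOfLe hle).toEquiv,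
      ← Nat.card_congr (MonoidHom.ofInjective toPerm_injective).toEquiv, McL.card_G]
  have hne : N ≠ ⊤ := by
    intro htop
    obtain ⟨g, hg⟩ : τ ∈ toPerm.range := by
      have : (⟨τ, hτA⟩ : Au) ∈ N := htop ▸ Subgroup.mem_top _
      exact this
    have hgy : ∀ y : A, (g : Co0) • y.1 = u - h • y.1 := fun y => by
      have e := DFunLike.congr_fun hg (num y)
      rw [toPerm_num, hτ] at e
      exact congrArg Subtype.val (num.injective e)
    set k : Co0 := (g : Co0)⁻¹ * h with hk
    obtain ⟨gv, gw⟩ := McL.mem_G.1 (inv_mem g.2)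
    have kv : k • v0 = McL.w1 := by rw [hk, mul_smul, hv, gw]
    have kw : k • McL.w1 = v0 := by rw [hk, mul_smul, hw, gv]
    have hky : ∀ y : A, k • y.1 = u - y.1 := fun y => by
      have e : h • y.1 = u - (g : Co0) • y.1 := by rw [hgy, sub_sub_cancel]
      rw [hk, mul_smul, e, smul_sub', inv_smul_smul, hu, smul_add', gv, gw]
    set x := McL.seed0
    set z := k • x with hz
    have hx : (x : Vec) = McL.F0 (maskSet McLData.farRoot) := rfl
    have hroot : maskSet McLData.farRoot ∈ octads ∧ none ∉ maskSet McLData.farRoot ∧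
        pt 0 ∉ maskSet McLData.farRoot := by
      refine ⟨mem_octads_iff.2 (by decide +kernel), ?_, ?_⟩ <;> rw [mem_maskSet] <;> decide +kernel
    have hxn : (x : Vec) none = 0 := by rw [hx]; simp [McL.F0, hroot.2.1]
    have hx0 : (x : Vec) (pt 0) = 0 := by rw [hx]; simp [McL.F0, hroot.2.2]
    have hxs : ∑ p, (x : Vec) p = 16 := by
      rw [hx, McL275.sum_F0, Finset.univ_inter, octad_card hroot.1]; norm_num
    have z1 : 4 * (z : Vec) none + 4 * (z : Vec) (pt 0) = 16 := by
      have := dot_smul k McL.w1 x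
      rw [kw, dot_v0, McL.dot_w1, hxs, hx0] at this
      simpa using this
    have z2 : ∑ p, (z : Vec) p - 4 * (z : Vec) (pt 0) = 0 := by
      have := dot_smul k v0 x
      rw [kv, dot_v0, McL.dot_w1, hxn, hx0] at this
      simpa using this
    have hpair : ∀ p, p ≠ none → p ≠ pt 0 → (z : Vec) none + (z : Vec) p = 4 - (x : Vec) p := by
      intro p hp hp0
      obtain ⟨i, hi⟩ := exists_index (pair_mem p hp hp0)
      have hd : ∀ q : Vec, dotInt ((num.symm i).1 : Vec) q = 4 * q none + 4 * q p := fun q => by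
        rw [← vecI_num, Equiv.apply_symm_apply, hi]
        show ∑ r, _ * q r = _
        have e : ∀ r, tvec (0, mask {none, p}) r = if r ∈ ({none, p} : Finset GolayPt) then 4 else 0 := by
          intro r
          simp [tvec, aC, bC, cC, maskSet_mask]
        simp only [e, ite_mul, zero_mul]
        rw [Finset.sum_ite_mem, Finset.univ_inter, Finset.sum_pair (Ne.symm hp)]
      have := dot_smul k (num.symm i).1 x
      rw [hky, hdr, hdu, dot_v0, McL.dot_w1, hd, hd, hxn] at this
      linarith
    have hsum := Finset.sum_congr (s₁ := (Finset.univ.erase none).erase (pt 0)) rfl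
      fun p hp => hpair p (Finset.ne_of_mem_erase (Finset.mem_of_mem_erase hp)) (Finset.ne_of_mem_erase hp)
    rw [Finset.sum_add_distrib, Finset.sum_sub_distrib, Finset.sum_const, Finset.sum_const,
      Finset.card_erase_of_mem (Finset.mem_erase.2 ⟨pt0_ne_none, Finset.mem_univ _⟩),
      Finset.card_erase_of_mem (Finset.mem_univ _), Finset.card_univ,
      show Fintype.card GolayPt = 24 by decide] at hsum
    have s1 := fun f : Vec => (Finset.add_sum_erase Finset.univ f (Finset.mem_univ none)).symm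
    have s2 := fun f : Vec => (Finset.add_sum_erase (Finset.univ.erase none) f
      (Finset.mem_erase.2 ⟨pt0_ne_none, Finset.mem_univ (pt 0)⟩)).symm
    rw [s1, s2, hxn, hx0] at hxs
    rw [s1, s2] at z2
    simp only [nsmul_eq_mul] at hsum
    push_cast at hsum
    omega
  have hmul := N.card_mul_index
  have h2 : 2 ≤ N.index := by
    have h0 : N.index ≠ 0 := Subgroup.index_ne_zero_of_finite
    have h1 : N.index ≠ 1 := fun e => hne (Subgroup.index_eq_one.1 e)
    omega
  rw [hN] at hmul
  calc 1796256000 = 898128000 * 2 := by norm_num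
    _ ≤ 898128000 * N.index := Nat.mul_le_mul_left _ h2
    _ = _ := hmul

end Cfsg.Agent.GroupStructure3.McLOut
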