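import Mathlib
import Cfsg.Agent.GroupStructure3.McLOut.Model

/-!
A subgroup of the order of a point stabiliser is a point stabiliser.
-/

set_option autoImplicit false

namespace Cfsg.Agent.GroupStructure3.McLOut

open Cfsg Cfsg.Agent.Leech.Basic Cfsg.Agent.Leech.Index
open Cfsg.Agent.LeechAut

local notation "GG" => McL.G

theorem adj_symm {y z : A} (h : Adj y z) : Adj z y := by
  rwa [Adj, Pairs.dot_comm]

theorem adj_ne {y z : A} (h : Adj y z) : y ≠ z := by
  rintro rfl
  rw [Adj, Triples.dot_self, y.2.1] at h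
  norm_num at h

theorem card_stab (y : A) : Nat.card (MulAction.stabilizer GG y) = 3265920 := by
  have h := Subgroup.index_mul_card (MulAction.stabilizer GG y)
  rw [MulAction.index_stabilizer, show MulAction.orbit GG y = Set.univ from
    Set.eq_univ_of_forall fun z => transitive y z, Set.ncard_univ, card_A, McL.card_G] at h
  omega

theorem row_cnt : ∀ i : Fin 275, cnt 35 (adjM i &&& (2 ^ 275 - 1)) = 112 := by decide +kernel

theorem card_adj (y : A) : {z | Adj y z}.ncard = 112 := by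
  classical
  have e : num '' {z | Adj y z} = ↑(Finset.univ.filter fun j => adjB (num y) j = true) := by
    ext j
    obtain ⟨w, rfl⟩ := num.surjective j
    simp [adjB_num]
  rw [← Set.ncard_image_of_injective _ num.injective, e, Set.ncard_coe_finset, ← row_cnt (num y),
    cnt_fin, Finset.card_filter]
  refine Finset.sum_congr rfl fun j _ => ?_
  rw [Nat.testBit_two_pow_sub_one, decide_eq_true j.2, Bool.and_true]
  cases adjB (num y) j <;> rfl

theorem exists_T : ∃ t : A, t.1 = McL275.T := ⟨⟨McL275.T, McL275.T_inA⟩, rfl⟩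

theorem mem_stab_conj (g : GG) (y : A) (h : GG) :
    h ∈ MulAction.stabilizer GG (g • y) ↔ g⁻¹ * h * g ∈ MulAction.stabilizer GG y := by
  simp only [MulAction.mem_stabilizer_iff, mul_smul, inv_smul_eq_iff]

theorem card_inf_smul (g : GG) (y z : A) :
    Nat.card ↥(MulAction.stabilizer GG (g • y) ⊓ MulAction.stabilizer GG (g • z)) =
      Nat.card ↥(MulAction.stabilizer GG y ⊓ MulAction.stabilizer GG z) := by
  refine Nat.card_congr ((MulAut.conj g⁻¹).toEquiv.subtypeEquiv fun h => ?_)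
  show h ∈ _ ⊓ _ ↔ g⁻¹ * h * g⁻¹⁻¹ ∈ _ ⊓ _
  rw [inv_inv, Subgroup.mem_inf, Subgroup.mem_inf, mem_stab_conj, mem_stab_conj]

theorem card_inf {y z : A} (hne : y ≠ z) :
    (Adj y z ∧ Nat.card ↥(MulAction.stabilizer GG y ⊓ MulAction.stabilizer GG z) = 29160) ∨
    (¬ Adj y z ∧ Nat.card ↥(MulAction.stabilizer GG y ⊓ MulAction.stabilizer GG z) = 20160) := by
  obtain ⟨t, ht⟩ := exists_T
  obtain ⟨g, rfl⟩ := transitive t y
  rw [← smul_inv_smul g z, card_inf_smul, adj_smul]
  generalize hw : g⁻¹ • z = w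
  have hwt : w ≠ t := fun e => hne (by rw [← e, ← hw, smul_inv_smul])
  have hdot : ∀ v : A, v ≠ t → dotInt (t.1 : Vec) (v.1 : Vec) = 8 ∨ dotInt (t.1 : Vec) (v.1 : Vec) = 16 := by
    intro v hv
    rw [ht]
    exact McL275.dot_cases v.2 fun e => hv (Subtype.ext (e.trans ht.symm))
  let S0 := MulAction.stabilizer GG t
  have horb : MulAction.orbit S0 w = {v : A | v ≠ t ∧ (Adj t v ↔ Adj t w)} := by
    ext v
    constructor
    · rintro ⟨s, rfl⟩
      have hs : (s : GG) • t = t := s.2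
      refine ⟨fun e => hwt (MulAction.injective (s : GG) (e.trans hs.symm)), ?_⟩
      show Adj t ((s : GG) • w) ↔ _
      conv_lhs => rw [← hs]
      exact adj_smul _ _ _
    · rintro ⟨hv, hiff⟩
      have hd : dotInt (t.1 : Vec) (w.1 : Vec) = dotInt (t.1 : Vec) (v.1 : Vec) := by
        unfold Adj at hiff
        rcases hdot w hwt with h | h <;> rcases hdot v hv with h' | h' <;> simp [h, h'] at hiff ⊢
      rw [ht] at hd
      obtain ⟨k, hk, e1, e2⟩ := McL275.trans_T w.2 v.2 (fun e => hwt (Subtype.ext (e.trans ht.symm)))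
        (fun e => hv (Subtype.ext (e.trans ht.symm))) hd
      refine ⟨⟨⟨k, hk⟩, Subtype.ext ?_⟩, Subtype.ext e2⟩
      show k • t.1 = t.1
      rw [ht, e1]
  have h := Subgroup.index_mul_card (MulAction.stabilizer S0 w)
  rw [MulAction.index_stabilizer, horb, card_stab,
    show Nat.card (MulAction.stabilizer S0 w) = Nat.card ↥(S0 ⊓ MulAction.stabilizer GG w) from
      Nat.card_congr ⟨fun g => ⟨g.1.1, g.1.2, g.2⟩, fun g => ⟨⟨g.1, g.2.1⟩, g.2.2⟩, fun g => rfl,
        fun g => rfl⟩] at h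
  simp only [S0] at h
  by_cases ha : Adj t w
  · refine Or.inl ⟨ha, ?_⟩
    rw [show {v : A | v ≠ t ∧ (Adj t v ↔ Adj t w)} = {v | Adj t v} from Set.ext fun v =>
      ⟨fun hv => hv.2.2 ha, fun hv => ⟨(adj_ne hv).symm, iff_of_true hv ha⟩⟩, card_adj] at h
    omega
  · refine Or.inr ⟨ha, ?_⟩
    have e : {v : A | v ≠ t ∧ (Adj t v ↔ Adj t w)} = (insert t {v | Adj t v})ᶜ := Set.ext fun v => by
      simp [ha]
    rw [e, Set.ncard_compl _ (Set.toFinite _), Set.ncard_insert_of_notMem
      (show t ∉ {v | Adj t v} from fun h => adj_ne h rfl) (Set.toFinite _), card_adj, card_A] at h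
    omega

theorem not_seven_adj {y z : A} (h : Adj y z) {x : GG} (hx : orderOf x = 7) (hy : x • y = y) :
    x • z ≠ z := by
  intro hz
  have hc := ((card_inf (adj_ne h)).resolve_right fun h' => h'.1 h).2
  have := orderOf_dvd_natCard (⟨x, hy, hz⟩ :
    ↥(MulAction.stabilizer GG y ⊓ MulAction.stabilizer GG z))
  rw [← Subgroup.orderOf_coe] at this
  simp only [hx, hc] at this
  norm_num at this

theorem dvd_of_orbits {P : Subgroup GG} (d : ℕ) : ∀ (n : ℕ) (Z : Set A), Z.ncard = n →
    (∀ p ∈ P, ∀ z ∈ Z, p • z ∈ Z) → (∀ z ∈ Z, d ∣ (MulAction.orbit P z).ncard) → d ∣ n := by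
  intro n
  induction n using Nat.strong_induction_on with
  | _ n ih =>
    intro Z hn hinv hd
    rcases Z.eq_empty_or_nonempty with rfl | ⟨z, hz⟩
    · rw [← hn, Set.ncard_empty]; exact dvd_zero d
    have hsub : MulAction.orbit P z ⊆ Z := by rintro _ ⟨p, rfl⟩; exact hinv p p.2 z hz
    have hpos : 0 < (MulAction.orbit P z).ncard :=
      (Set.ncard_pos (Set.toFinite _)).2 ⟨z, MulAction.mem_orbit_self z⟩
    have hle := Set.ncard_le_ncard hsub (Set.toFinite _)
    have hdiff := Set.ncard_sdiff hsub (Set.toFinite _)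
    rw [← Nat.sub_add_cancel (hn ▸ hle : _ ≤ n)]
    refine Nat.dvd_add (ih _ (by omega) (Z \ MulAction.orbit P z) (by omega) ?_ fun w hw => hd w hw.1)
      (hd z hz)
    intro p hp w hw
    refine ⟨hinv p hp w hw.1, fun hmem => hw.2 ?_⟩
    obtain ⟨q, hq⟩ := hmem
    refine ⟨⟨p⁻¹, inv_mem hp⟩ * q, ?_⟩
    show (p⁻¹ * (q : GG)) • z = w
    rw [mul_smul]
    exact inv_smul_eq_iff.2 hq

theorem orbit_far {P : Subgroup GG} (hP : Nat.card P = 729) {y : A} (hy : ∀ p ∈ P, p • y = y)
    {w : A} (hne : w ≠ y) (hw : ¬ Adj y w) : 81 ∣ (MulAction.orbit P w).ncard := by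
  have h := Subgroup.index_mul_card (MulAction.stabilizer P w)
  rw [MulAction.index_stabilizer, hP] at h
  have hd : Nat.card (MulAction.stabilizer P w) ∣ 20160 := by
    rw [← ((card_inf hne.symm).resolve_left fun h' => hw h'.1).2,
      ← Subgroup.card_map_of_injective (K := MulAction.stabilizer P w) P.subtype_injective]
    refine Subgroup.card_dvd_of_le ?_
    rintro _ ⟨p, hp, rfl⟩
    exact ⟨hy _ p.2, hp⟩
  have h9 : Nat.card (MulAction.stabilizer P w) ∣ 9 :=
    (Nat.dvd_gcd (Dvd.intro_left _ h) hd).trans (by norm_num)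
  obtain ⟨m, hm⟩ := h9
  refine ⟨m, ?_⟩
  have hpos : 0 < Nat.card (MulAction.stabilizer P w) := Nat.card_pos
  refine Nat.eq_of_mul_eq_mul_right hpos ?_
  rw [h, mul_assoc, mul_comm m, ← hm]
  norm_num

theorem orbit_common {P : Subgroup GG} (hP : Nat.card P = 729) {y z w : A}
    (hy : ∀ p ∈ P, p • y = y) (hz : ∀ p ∈ P, p • z = z) (h1 : Adj y z) (h2 : Adj y w) (h3 : Adj z w) :
    3 ∣ (MulAction.orbit P w).ncard := by
  have h := Subgroup.index_mul_card (MulAction.stabilizer P w)
  rw [MulAction.index_stabilizer, hP] at h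
  obtain ⟨i, -, hi⟩ := (Nat.dvd_prime_pow Nat.prime_three).1
    (show (MulAction.orbit P w).ncard ∣ 3 ^ 6 by exact ⟨_, (h.trans (by norm_num)).symm⟩)
  rcases Nat.eq_zero_or_pos i with rfl | hi0
  · exfalso
    rw [hi, pow_zero, one_mul] at h
    have htop : MulAction.stabilizer P w = ⊤ := Subgroup.eq_top_of_card_eq _ (by rw [h, hP])
    refine not_dvd_triangle card_Au ((adjB_num y z).2 h1) ((adjB_num y w).2 h2)
      ((adjB_num z w).2 h3) (P.map toPerm) ?_ ?_ ?_
    · rintro _ ⟨p, -, rfl⟩; exact toPerm_mem p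
    · rintro _ ⟨p, hp, rfl⟩
      have hw : p • w = w := (htop ▸ Subgroup.mem_top (⟨p, hp⟩ : P) :)
      rw [toPerm_num, toPerm_num, toPerm_num, hy p hp, hz p hp, hw]
      exact ⟨rfl, rfl, rfl⟩
    · rw [Subgroup.card_map_of_injective toPerm_injective, hP]
  · rw [hi]; exact dvd_pow_self 3 hi0.ne'

theorem card_common {y z : A} (h : Adj y z) : {w | Adj y w ∧ Adj z w}.ncard = 30 := by
  classical
  rw [← common_edge card_Au ((adjB_num y z).2 h), ← Set.ncard_coe_finset,
    ← Set.ncard_image_of_injective _ num.injective]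
  refine congrArg Set.ncard (Set.ext fun i => ?_)
  obtain ⟨w, rfl⟩ := num.surjective i
  simp [adjB_num, num.injective.eq_iff]

/-- In a set of pairwise adjacent vectors there are at most five. -/
theorem clique_le {O : Set A} (h : ∀ a ∈ O, ∀ b ∈ O, a ≠ b → Adj a b) : O.ncard ≤ 5 := by
  classical
  by_contra hlt
  obtain ⟨a, ha, b, hb, c, hc, hab, hac, hbc⟩ : ∃ a ∈ O, ∃ b ∈ O, ∃ c ∈ O, a ≠ b ∧ a ≠ c ∧ b ≠ c := by
    obtain ⟨a, b, c, ha, hb, hc, h1, h2, h3⟩ := (Set.two_lt_ncard_iff (Set.toFinite O)).1 (by omega)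
    exact ⟨a, ha, b, hb, c, hc, h1, h2, h3⟩
  have h2 := common_triangle card_Au ((adjB_num a b).2 (h a ha b hb hab))
    ((adjB_num a c).2 (h a ha c hc hac)) ((adjB_num b c).2 (h b hb c hc hbc))
  have hle : (O \ {a, b, c}).ncard ≤ 2 := by
    refine le_trans (Set.ncard_le_ncard_of_injOn num (fun w hw => ?_) num.injective.injOn)
      ((Set.ncard_coe_finset _).trans_le h2)
    obtain ⟨hwO, hw3⟩ := hw
    simp only [Set.mem_insert_iff, Set.mem_singleton_iff, not_or] at hw3
    simp only [Finset.coe_filter, Finset.mem_univ, true_and, Set.mem_setOf_eq, adjB_num]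
    exact ⟨h a ha w hwO (Ne.symm hw3.1), h b hb w hwO (Ne.symm hw3.2.1), h c hc w hwO (Ne.symm hw3.2.2)⟩
  have h3 : ({a, b, c} : Set A).ncard ≤ 3 := by
    refine le_trans (Set.ncard_insert_le _ _) ?_
    have := Set.ncard_insert_le b ({c} : Set A)
    rw [Set.ncard_singleton] at this
    omega
  have := Set.ncard_le_ncard_sdiff_add_ncard O ({a, b, c} : Set A) (Set.toFinite _)
  omega

theorem split_card (S C : Set A) : S.ncard = (S ∩ C).ncard + (S \ C).ncard :=
  (Set.ncard_inter_add_ncard_sdiff_eq_ncard S C (Set.toFinite _)).symm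

/-- A subgroup of order 3265920 fixes a vector. -/
theorem exists_fixed {H : Subgroup GG} (hH : Nat.card H = 3265920) : ∃ z : A, ∀ h ∈ H, h • z = z := by
  classical
  haveI : Fact (Nat.Prime 3) := ⟨Nat.prime_three⟩
  obtain ⟨P0⟩ : Nonempty (Sylow 3 H) := inferInstance
  set P : Subgroup GG := (P0 : Subgroup H).map H.subtype with hPdef
  have hPH : P ≤ H := Subgroup.map_subtype_le _
  have hP : Nat.card P = 729 := by
    rw [hPdef, Subgroup.card_map_of_injective H.subtype_injective, P0.card_eq_multiplicity, hH,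
      Nat.factorization_def _ Nat.prime_three, show (3265920 : ℕ) = 3 ^ 6 * 4480 by norm_num,
      padicValNat.mul (by norm_num) (by norm_num), padicValNat.prime_pow,
      padicValNat.eq_zero_of_not_dvd (by norm_num)]
    norm_num
  have hmod := (IsPGroup.of_card (p := 3) (n := 6) (G := P) (by rw [hP]; norm_num)).card_modEq_card_fixedPoints A
  rw [card_A] at hmod
  have h2 : 1 < Nat.card (MulAction.fixedPoints P A) := by
    have : 275 % 3 = Nat.card (MulAction.fixedPoints P A) % 3 := hmod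
    omega
  haveI := Finite.one_lt_card_iff_nontrivial.1 h2
  obtain ⟨⟨t, ht'⟩, ⟨u, hu'⟩, hne'⟩ := exists_pair_ne (MulAction.fixedPoints P A)
  have htu : t ≠ u := fun e => hne' (Subtype.ext e)
  have ht : ∀ p ∈ P, p • t = t := fun p hp => ht' ⟨p, hp⟩
  have hu : ∀ p ∈ P, p • u = u := fun p hp => hu' ⟨p, hp⟩
  have hadj : Adj t u := by
    rcases card_inf htu with ⟨h, -⟩ | ⟨-, hc⟩
    · exact h
    · exfalso
      have hd : Nat.card P ∣ 20160 := hc ▸ Subgroup.card_dvd_of_le (le_inf (fun p hp => ht p hp) fun p hp => hu p hp)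
      rw [hP] at hd
      norm_num at hd
  set C := {w | Adj t w ∧ Adj u w} with hC
  set F := ({t, u} : Set A) with hF
  have hFC : ∀ w, w ∉ F → w ∉ C → ∀ p ∈ P, 81 ∣ (MulAction.orbit P w).ncard := by
    intro w hwF hwC _ _
    simp only [hF, Set.mem_insert_iff, Set.mem_singleton_iff, not_or] at hwF
    simp only [hC, Set.mem_setOf_eq, not_and_or] at hwC
    rcases hwC with h | h
    · exact orbit_far hP ht hwF.1 h
    · exact orbit_far hP hu hwF.2 h
  -- the sizes of the parts of an invariant set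
  have hparts : ∀ O : Set A, (∀ p ∈ P, ∀ z ∈ O, p • z ∈ O) →
      O.ncard = (O ∩ F).ncard + ((O \ F) ∩ C).ncard + ((O \ F) \ C).ncard ∧
      3 ∣ ((O \ F) ∩ C).ncard ∧ ((O \ F) ∩ C).ncard ≤ 30 ∧ 81 ∣ ((O \ F) \ C).ncard ∧
      ((O \ F) \ C).ncard ≤ 243 := by
    intro O hO
    have hnotF : ∀ p ∈ P, ∀ z, z ∉ F → p • z ∉ F := by
      intro p hp z hz hzF
      refine hz ?_
      rcases hzF with e | e
      · exact Or.inl (MulAction.injective p (e.trans (ht p hp).symm))
      · exact Or.inr (MulAction.injective p ((Set.mem_singleton_iff.1 e).trans (hu p hp).symm))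
    have hinC : ∀ p ∈ P, ∀ z, p • z ∈ C ↔ z ∈ C := fun p hp z => by
      show Adj t (p • z) ∧ Adj u (p • z) ↔ Adj t z ∧ Adj u z
      conv_lhs => rw [← ht p hp, ← hu p hp, adj_smul, adj_smul]
    refine ⟨?_, ?_, ?_, ?_, ?_⟩
    · rw [split_card O F, split_card (O \ F) C, add_assoc]
    · refine dvd_of_orbits (P := P) 3 _ _ rfl (fun p hp z hz => ⟨⟨hO p hp z hz.1.1, hnotF p hp z hz.1.2⟩,
        (hinC p hp z).2 hz.2⟩) fun z hz => orbit_common hP ht hu hadj hz.2.1 hz.2.2
    · exact le_trans (Set.ncard_le_ncard Set.inter_subset_right (Set.toFinite _)) (card_common hadj).le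
    · exact dvd_of_orbits (P := P) 81 _ _ rfl (fun p hp z hz => ⟨⟨hO p hp z hz.1.1, hnotF p hp z hz.1.2⟩,
        fun h => hz.2 ((hinC p hp z).1 h)⟩) fun z hz => hFC z hz.1.2 hz.2 1 (one_mem _)
    · have h1 : ((O \ F) \ C).ncard ≤ (F ∪ C)ᶜ.ncard :=
        Set.ncard_le_ncard (fun z hz => by simp [hz.1.2, hz.2]) (Set.toFinite _)
      rw [Set.ncard_compl _ (Set.toFinite _), card_A, Set.ncard_union_eq ?_ (Set.toFinite _) (Set.toFinite _),
        hF, Set.ncard_pair htu, card_common hadj] at h1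
      · omega
      · rw [Set.disjoint_left]
        rintro z (rfl | rfl) hz
        · exact adj_ne hz.1 rfl
        · exact adj_ne hz.2 rfl
  -- the two orbits
  have hinv : ∀ z : A, ∀ p ∈ P, ∀ w ∈ MulAction.orbit H z, p • w ∈ MulAction.orbit H z := by
    rintro z p hp _ ⟨h, rfl⟩
    exact ⟨⟨p, hPH hp⟩ * h, mul_smul (p : GG) (h : GG) z⟩
  have hdvd : ∀ z : A, (∀ p ∈ P, p • z = z) → (MulAction.orbit H z).ncard ∣ 4480 := by
    intro z hz
    have h := Subgroup.index_mul_card (MulAction.stabilizer H z)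
    rw [MulAction.index_stabilizer, hH] at h
    have h729 : 729 ∣ Nat.card (MulAction.stabilizer H z) := by
      rw [← hP, ← Subgroup.card_map_of_injective (K := MulAction.stabilizer H z) H.subtype_injective]
      exact Subgroup.card_dvd_of_le fun p hp => ⟨⟨p, hPH hp⟩, hz p hp, rfl⟩
    obtain ⟨m, hm⟩ := h729
    exact ⟨m, Nat.eq_of_mul_eq_mul_right (show 0 < 729 by norm_num) (by rw [mul_assoc, mul_comm m, ← hm, h])⟩
  set O := MulAction.orbit H t with hOdef
  obtain ⟨e1, a3, a30, b81, b243⟩ := hparts O (hinv t)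
  have hk := hdvd t ht
  have htO : t ∈ O := MulAction.mem_orbit_self t
  rcases Nat.eq_zero_or_pos ((O \ F) \ C).ncard with hb | hb
  · -- the orbit is a set of pairwise adjacent vectors
    have hall : ∀ w ∈ O, w ≠ t → Adj t w := by
      intro w hw hwt
      by_cases hwF : w ∈ F
      · rcases hwF with rfl | e
        · exact absurd rfl hwt
        · rw [Set.mem_singleton_iff.1 e]; exact hadj
      by_contra h
      exact absurd (Set.ncard_eq_zero (Set.toFinite _) |>.1 hb)
        (Set.Nonempty.ne_empty ⟨w, ⟨hw, hwF⟩, fun h' => h h'.1⟩)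
    have hcl : ∀ a ∈ O, ∀ b ∈ O, a ≠ b → Adj a b := by
      rintro _ ⟨g, rfl⟩ b hb' hab
      have h1 := hall ((g : GG)⁻¹ • b) (by
        obtain ⟨g', rfl⟩ := hb'
        exact ⟨g⁻¹ * g', mul_smul ((g : GG)⁻¹) (g' : GG) t⟩) (fun e => hab (by
        show (g : GG) • t = b
        rw [← e, smul_inv_smul]))
      have h2 := (adj_smul (g : GG) _ _).2 h1
      rwa [smul_inv_smul] at h2
    have hk5 := clique_le hcl
    by_cases hk1 : O.ncard = 1
    · obtain ⟨w, hw⟩ := Set.ncard_eq_one.1 hk1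
      refine ⟨t, fun h hh => ?_⟩
      have h1 : (⟨h, hh⟩ : H) • t ∈ ({w} : Set A) := hw ▸ MulAction.mem_orbit t _
      have h2 : t ∈ ({w} : Set A) := hw ▸ htO
      exact (Set.mem_singleton_iff.1 h1).trans (Set.mem_singleton_iff.1 h2).symm
    exfalso
    have h := Subgroup.index_mul_card (MulAction.stabilizer H t)
    rw [MulAction.index_stabilizer, ← hOdef, hH] at h
    haveI : Fact (Nat.Prime 7) := ⟨by norm_num⟩
    have h7 : 7 ∣ Nat.card (MulAction.stabilizer H t) := by
      have h7' : 7 ∣ O.ncard * Nat.card (MulAction.stabilizer H t) := by rw [h]; norm_num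
      refine ((by norm_num : Nat.Prime 7).dvd_mul.1 h7').resolve_left fun hd => ?_
      have := Nat.le_of_dvd ((Set.ncard_pos (Set.toFinite _)).2 ⟨t, htO⟩) hd
      omega
    obtain ⟨x, hx⟩ := exists_prime_orderOf_dvd_card' 7 h7
    have hx7 : orderOf ((x : H) : GG) = 7 := by rw [Subgroup.orderOf_coe, Subgroup.orderOf_coe, hx]
    obtain ⟨w, hwO, hwt⟩ : ∃ w ∈ O, w ≠ t := by
      by_contra hno
      push Not at hno
      exact hk1 (Set.ncard_eq_one.2 ⟨t, Set.eq_singleton_iff_unique_mem.2 ⟨htO, hno⟩⟩)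
    refine not_seven_adj (hall w hwO hwt) hx7 x.2 ?_
    have ho : (MulAction.orbit (Subgroup.zpowers (x : H)) w).ncard ∣ 7 := by
      rw [← MulAction.index_stabilizer, ← hx, ← Subgroup.orderOf_coe, ← Nat.card_zpowers]
      exact Subgroup.index_dvd_card _
    have hole : (MulAction.orbit (Subgroup.zpowers (x : H)) w).ncard ≤ 5 := by
      refine le_trans (Set.ncard_le_ncard ?_ (Set.toFinite _)) hk5
      rintro _ ⟨q, rfl⟩
      obtain ⟨g, rfl⟩ := hwO
      exact ⟨(q : H) * g, mul_smul ((q : H) : GG) (g : GG) t⟩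
    rcases (by norm_num : Nat.Prime 7).eq_one_or_self_of_dvd _ ho with h1 | h1
    · obtain ⟨v, hv⟩ := Set.ncard_eq_one.1 h1
      have m1 : (⟨(x : H), Subgroup.mem_zpowers _⟩ : Subgroup.zpowers (x : H)) • w ∈ ({v} : Set A) :=
        hv ▸ MulAction.mem_orbit w _
      have m2 : w ∈ ({v} : Set A) := hv ▸ MulAction.mem_orbit_self w
      exact (Set.mem_singleton_iff.1 m1).trans (Set.mem_singleton_iff.1 m2).symm
    · omega
  · -- otherwise the other fixed vector is fixed
    by_cases huO : u ∈ O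
    · exfalso
      rw [show O ∩ F = F from Set.inter_eq_right.2 (by rintro _ (rfl | rfl) <;> assumption), hF,
        Set.ncard_pair htu] at e1
      obtain ⟨a, ha⟩ := a3
      obtain ⟨b, hb'⟩ := b81
      have key : ∀ a ≤ 10, ∀ b ≤ 3, 0 < b → ¬ (2 + 3 * a + 81 * b) ∣ 4480 := by decide +kernel
      exact key a (by omega) b (by omega) (by omega) (by rw [e1, ha, hb'] at hk; exact hk)
    · rw [show O ∩ F = {t} from Set.ext fun z => ⟨fun ⟨hz, hzF⟩ => hzF.resolve_right
          (fun e => huO (Set.mem_singleton_iff.1 e ▸ hz)), fun hz => by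
            rw [Set.mem_singleton_iff.1 hz]; exact ⟨htO, Or.inl rfl⟩⟩, Set.ncard_singleton] at e1
      obtain ⟨a, ha⟩ := a3
      obtain ⟨b, hb'⟩ := b81
      have key : ∀ a ≤ 10, ∀ b ≤ 3, 0 < b → (1 + 3 * a + 81 * b) ∣ 4480 → a = 10 := by decide +kernel
      have ha10 := key a (by omega) b (by omega) (by omega) (by rw [e1, ha, hb'] at hk; exact hk)
      have hCO : C ⊆ O := by
        have he : (O \ F) ∩ C = C := Set.eq_of_subset_of_ncard_le Set.inter_subset_right
          (by rw [card_common hadj, ha, ha10]) (Set.toFinite _)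
        exact fun z hz => (show z ∈ (O \ F) ∩ C by rw [he]; exact hz).1.1
      set O' := MulAction.orbit H u with hO'def
      have hdisj : ∀ z ∈ O', z ∉ O := fun z hz hz' => huO (by
        have e1 : MulAction.orbit H z = O := MulAction.orbit_eq_iff.2 hz'
        have e2 : MulAction.orbit H z = O' := MulAction.orbit_eq_iff.2 hz
        rw [← e1, e2]; exact MulAction.mem_orbit_self u)
      obtain ⟨e1', -, -, b81', b243'⟩ := hparts O' (hinv u)
      rw [show O' ∩ F = {u} from Set.ext fun z => ⟨fun ⟨hz, hzF⟩ => hzF.resolve_left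
          (fun e => hdisj z hz (e ▸ htO)), fun hz => by
            rw [Set.mem_singleton_iff.1 hz]
            exact ⟨MulAction.mem_orbit_self u, Or.inr rfl⟩⟩, Set.ncard_singleton,
        show (O' \ F) ∩ C = ∅ from Set.eq_empty_of_forall_notMem fun z hz => hdisj z hz.1.1 (hCO hz.2),
        Set.ncard_empty, add_zero] at e1'
      obtain ⟨b', hb''⟩ := b81'
      have key' : ∀ b ≤ 3, (1 + 81 * b) ∣ 4480 → b = 0 := by decide +kernel
      have hb0 := key' b' (by omega) (by rw [← hb'', ← e1']; exact hdvd u hu)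
      obtain ⟨w, hw⟩ := Set.ncard_eq_one.1 (show O'.ncard = 1 by omega)
      refine ⟨u, fun h hh => ?_⟩
      have h1 : (⟨h, hh⟩ : H) • u ∈ ({w} : Set A) := hw ▸ MulAction.mem_orbit u _
      have h2 : u ∈ ({w} : Set A) := hw ▸ MulAction.mem_orbit_self u
      exact (Set.mem_singleton_iff.1 h1).trans (Set.mem_singleton_iff.1 h2).symm

end Cfsg.Agent.GroupStructure3.McLOut
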