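import Mathlib
import Cfsg.Agent.GroupStructure3.McLOut.Orbit
import Cfsg.Prelude.Def_Spor_Conway
import Cfsg.Prelude.Def_KGroupFacts

/-!
Every automorphism of the McLaughlin group comes from an automorphism of the graph of the 275 vectors.
-/

set_option autoImplicit false
set_option maxRecDepth 10000

namespace Cfsg.Agent.GroupStructure3.McLOut

open Cfsg Cfsg.Agent.Leech.Basic Cfsg.Agent.Leech.Index
open Cfsg.Agent.LeechAut

local notation "GG" => McL.G

theorem none_ne_pt0 : (none : GolayPt) ≠ Cfsg.Agent.Golay.Basic.pt 0 := by decide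

theorem exists_stab (φ : GG ≃* GG) (y : A) :
    ∃ z : A, (MulAction.stabilizer GG y).map φ.toMonoidHom = MulAction.stabilizer GG z := by
  have hc : Nat.card ((MulAction.stabilizer GG y).map φ.toMonoidHom) = 3265920 := by
    rw [Subgroup.card_map_of_injective φ.injective, card_stab]
  obtain ⟨z, hz⟩ := exists_fixed hc
  exact ⟨z, Subgroup.eq_of_le_of_card_ge (fun h hh => hz h hh) (by rw [card_stab, hc])⟩

theorem stab_injective {y z : A} (h : MulAction.stabilizer GG y = MulAction.stabilizer GG z) :
    y = z := by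
  by_contra hne
  rcases card_inf hne with ⟨-, hc⟩ | ⟨-, hc⟩ <;> rw [← h, inf_idem, card_stab] at hc <;>
    norm_num at hc

theorem adj_iff (y z : A) : Adj y z ↔ y ≠ z ∧
    Nat.card ↥(MulAction.stabilizer GG y ⊓ MulAction.stabilizer GG z) = 29160 := by
  refine ⟨fun h => ⟨adj_ne h, ((card_inf (adj_ne h)).resolve_right fun h' => h'.1 h).2⟩, fun ⟨hne, h⟩ => ?_⟩
  rcases card_inf hne with ⟨ha, -⟩ | ⟨-, hc⟩
  · exact ha
  · omega

theorem card_mulAut : Nat.card (MulAut GG) = 1796256000 := by
  classical
  let toAu : GG →* Au := toPerm.codRestrict Au toPerm_mem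
  have hinj : Function.Injective toAu := fun g h e => toPerm_injective (congrArg Subtype.val e)
  let T : Subgroup Au := toAu.range
  let ET := MonoidHom.ofInjective hinj
  have hTi : T.index = 2 := by
    have h := T.card_mul_index
    rw [show Nat.card T = 898128000 from (Nat.card_congr ET.symm.toEquiv).trans McL.card_G, card_Au] at h
    omega
  haveI : T.Normal := Subgroup.normal_of_index_eq_two hTi
  let ψ : Au →* MulAut T := MulAut.conjNormal
  rw [Nat.card_congr (MulAut.congr ET).toEquiv, ← card_Au]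
  refine (Nat.card_congr (Equiv.ofBijective ψ ⟨?_, ?_⟩)).symm
  · rw [injective_iff_map_eq_one]
    intro a ha
    refine Subtype.ext (Equiv.ext fun i => ?_)
    obtain ⟨y, rfl⟩ := num.surjective i
    obtain ⟨z, hz⟩ := num.surjective ((a : Equiv.Perm (Fin 275)) (num y))
    have key : ∀ g : GG, (a : Equiv.Perm (Fin 275)) (num (g • y)) = num (g • z) := by
      intro g
      have hc : a * toAu g * a⁻¹ = toAu g :=
        congrArg Subtype.val (DFunLike.congr_fun ha (⟨toAu g, ⟨g, rfl⟩⟩ : T))
      rw [mul_inv_eq_iff_eq_mul] at hc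
      have e : (a : Equiv.Perm (Fin 275)) (toPerm g (num y)) = toPerm g ((a : Equiv.Perm (Fin 275)) (num y)) :=
        DFunLike.congr_fun (congrArg Subtype.val hc) (num y)
      rw [← hz, toPerm_num, toPerm_num] at e
      exact e
    have hle : MulAction.stabilizer GG y ≤ MulAction.stabilizer GG z := fun g hg => by
      have e := key g
      rw [MulAction.mem_stabilizer_iff.1 hg, ← hz] at e
      exact num.injective e.symm
    have := stab_injective (Subgroup.eq_of_le_of_card_ge hle (by rw [card_stab, card_stab]))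
    rw [← hz, ← this]
    rfl
  · intro Φ
    let φ : GG ≃* GG := (ET.trans Φ).trans ET.symm
    choose σ hσ using exists_stab φ
    have hσinj : Function.Injective σ := fun y z e => stab_injective
      (Subgroup.map_injective (f := φ.toMonoidHom) φ.injective (by rw [hσ, hσ, e]))
    let σ' : A ≃ A := Equiv.ofBijective σ (Finite.injective_iff_bijective.1 hσinj)
    have heq : ∀ (g : GG) y, σ (g • y) = φ g • σ y := fun g y => stab_injective (by
      ext h
      rw [← hσ, mem_stab_conj, ← hσ y]
      obtain ⟨u, rfl⟩ := φ.surjective h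
      rw [← map_inv, ← map_mul, ← map_mul]
      show φ.toMonoidHom u ∈ _ ↔ φ.toMonoidHom (g⁻¹ * u * g) ∈ _
      rw [Subgroup.mem_map_iff_mem φ.injective, Subgroup.mem_map_iff_mem φ.injective, mem_stab_conj])
    have hadj : ∀ y z, Adj (σ y) (σ z) ↔ Adj y z := fun y z => by
      rw [adj_iff, adj_iff, hσinj.ne_iff, ← hσ y, ← hσ z,
        ← Subgroup.map_inf_eq _ _ _ φ.injective, Subgroup.card_map_of_injective φ.injective]
    have hs : num.permCongr σ' ∈ Au := by
      intro i j
      obtain ⟨y, rfl⟩ := num.surjective i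
      obtain ⟨z, rfl⟩ := num.surjective j
      rw [Equiv.permCongr_apply, Equiv.permCongr_apply, Equiv.symm_apply_apply, Equiv.symm_apply_apply,
        Bool.eq_iff_iff, adjB_num, adjB_num]
      exact hadj y z
    refine ⟨⟨_, hs⟩, MulEquiv.ext fun t => Subtype.ext ?_⟩
    obtain ⟨g, rfl⟩ := ET.surjective t
    show (⟨_, hs⟩ : Au) * toAu g * (⟨_, hs⟩ : Au)⁻¹ = ((Φ (ET g) : T) : Au)
    have hΦ : ((Φ (ET g) : T) : Au) = toAu (φ g) := by
      show _ = ((ET (ET.symm (Φ (ET g))) : T) : Au)
      rw [MulEquiv.apply_symm_apply]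
    rw [hΦ, mul_inv_eq_iff_eq_mul]
    refine Subtype.ext (Equiv.ext fun i => ?_)
    obtain ⟨y, rfl⟩ := num.surjective i
    show num.permCongr σ' (toPerm g (num y)) = toPerm (φ g) (num.permCongr σ' (num y))
    rw [toPerm_num, Equiv.permCongr_apply, Equiv.symm_apply_apply, Equiv.permCongr_apply,
      Equiv.symm_apply_apply, toPerm_num]
    exact congrArg num (heq g y)

/-- The group of the definitions is the stabiliser of the pair. -/
theorem nonempty_equiv : Nonempty (Spor.McL ≃* GG) := by
  set w := -(Spor.leechV + Spor.leechU) with hwdef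
  obtain ⟨E⟩ := McL.equiv_G Spor.leechU w (by decide +kernel)
    (by rw [hwdef]; decide +kernel) (by rw [hwdef]; decide +kernel)
  have hv : Spor.leechV = -(Spor.leechU + w) := by rw [hwdef]; abel
  have h0 : ∀ g : Co0, g • (0 : leechLattice) = 0 := fun g => by
    have h := Cfsg.Agent.LeechAut.Basic.smul_add' g 0 0
    rw [add_zero] at h
    exact left_eq_add.1 h
  have hneg : ∀ (g : Co0) (v : leechLattice), g • (-v) = -(g • v) := fun g v => by
    refine eq_neg_of_add_eq_zero_right ?_
    rw [← Cfsg.Agent.LeechAut.Basic.smul_add', add_neg_cancel, h0]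
  let E' : Spor.McL ≃* ↥(MulAction.stabilizer Co0 Spor.leechU ⊓ MulAction.stabilizer Co0 w) :=
    { toFun := fun g => ⟨⟨(g : Equiv.Perm leechLattice), g.2.1.1⟩, ⟨g.2.2, by
        have hv' : (⟨(g : Equiv.Perm leechLattice), g.2.1.1⟩ : Co0) • Spor.leechV = Spor.leechV := g.2.1.2
        have hu' : (⟨(g : Equiv.Perm leechLattice), g.2.1.1⟩ : Co0) • Spor.leechU = Spor.leechU := g.2.2
        show (⟨(g : Equiv.Perm leechLattice), g.2.1.1⟩ : Co0) • w = w
        rw [hwdef, hneg, Cfsg.Agent.LeechAut.Basic.smul_add', hv', hu']⟩⟩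
      invFun := fun g => ⟨((g : Co0) : Equiv.Perm leechLattice), ⟨(g : Co0).2, by
        show (g : Co0) • Spor.leechV = Spor.leechV
        rw [hv, hneg, Cfsg.Agent.LeechAut.Basic.smul_add', MulAction.mem_stabilizer_iff.1 g.2.1,
          MulAction.mem_stabilizer_iff.1 g.2.2]⟩, g.2.1⟩
      left_inv := fun g => rfl
      right_inv := fun g => rfl
      map_mul' := fun g h => rfl }
  exact ⟨E'.trans E⟩

theorem card_out : Nat.card (Cfsg.Out ↥Spor.McL) = 2 := by
  obtain ⟨E⟩ := nonempty_equiv
  have hA : Nat.card (MulAut ↥Spor.McL) = 1796256000 :=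
    (Nat.card_congr (MulAut.congr E).toEquiv).trans card_mulAut
  have hG : Nat.card ↥Spor.McL = 898128000 := (Nat.card_congr E.toEquiv).trans McL.card_G
  haveI : Finite ↥Spor.McL := Nat.finite_of_card_ne_zero (by rw [hG]; norm_num)
  haveI hs : IsSimpleGroup ↥Spor.McL := E.isSimpleGroup_congr.2 McL.isSimple_G
  have hz : Subgroup.center ↥Spor.McL = ⊥ := by
    rcases IsSimpleGroup.eq_bot_or_eq_top_of_normal (Subgroup.center ↥Spor.McL) inferInstance with h | h
    · exact h
    · exfalso
      haveI : IsMulCommutative ↥Spor.McL := ⟨⟨fun a b =>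
        ((Subgroup.mem_center_iff.1 (h ▸ Subgroup.mem_top a)) b).symm⟩⟩
      have hp : (Nat.card ↥Spor.McL).Prime := by
        letI : CommGroup ↥Spor.McL := { (inferInstance : Group ↥Spor.McL) with mul_comm := mul_comm' }
        exact IsSimpleGroup.prime_card
      rw [hG] at hp
      exact absurd hp (Nat.not_prime_mul (a := 2) (b := 449064000) (by norm_num) (by norm_num))
  have hinn : Nat.card (Cfsg.Inn ↥Spor.McL) = 898128000 := by
    refine (Nat.card_congr (MonoidHom.ofInjective ?_).toEquiv).symm.trans hG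
    rw [← MonoidHom.ker_eq_bot_iff, eq_bot_iff]
    intro g hg
    rw [← hz, Subgroup.mem_center_iff]
    intro h
    have := DFunLike.congr_fun (MonoidHom.mem_ker.1 hg) h
    simp only [MulAut.conj_apply, MulAut.one_apply] at this
    exact (mul_inv_eq_iff_eq_mul.1 this).symm
  have h := Subgroup.card_eq_card_quotient_mul_card_subgroup (Cfsg.Inn ↥Spor.McL)
  rw [hA, hinn] at h
  show Nat.card (MulAut ↥Spor.McL ⧸ Cfsg.Inn ↥Spor.McL) = 2
  omega

end Cfsg.Agent.GroupStructure3.McLOut
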